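import Cfsg.Agent.H0.TC
set_option maxRecDepth 100000
namespace H0.TCU330
open H0
noncomputable def r0 : TC.WTr := (.node (.node (.node (.node (.node (.node (.leaf [0] 0 0 false) (.leaf [5] 4 0 false)) (.node (.leaf [2, 7, 7, 0, 6, 0] 27 3 false) (.leaf [3, 5, 3, 7, 7, 3] 16 1 false))) (.node (.node (.leaf [0, 5, 3, 4, 0, 1, 1] 33 3 false) (.leaf [1, 1, 0, 7, 0, 6] 27 1 true)) (.leaf [5, 6, 0, 7, 5, 1, 0] 32 0 true))) (.node (.node (.node (.leaf [7, 0, 6, 6, 1, 1] 27 4 true) (.leaf [3, 5, 7, 5] 10 1 false)) (.leaf [1, 4, 3, 5, 2] 23 1 false)) (.node (.node (.leaf [2] 1 0 false) (.leaf [0, 2, 2, 7, 7, 0] 27 1 false)) (.leaf [2, 5, 5, 7, 1, 1, 6] 29 3 false)))) (.node (.node (.node (.node (.leaf [6, 0, 4, 6, 3, 1, 6] 30 5 true) (.leaf [6, 5, 6, 5, 6] 15 0 false)) (.node (.leaf [5, 0, 1, 0, 2, 2, 0, 2, 0] 19 8 false) (.leaf [6] 6 1 false))) (.node (.node (.leaf [2]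 1 0 false) (.leaf [6, 6, 6, 5, 3, 4] 14 0 true)) (.leaf [5] 4 0 false))) (.node (.node (.node (.leaf [0] 0 0 false) (.leaf [4] 4 1 false)) (.leaf [4, 4, 6, 4] 10 2 true)) (.node (.node (.leaf [0, 1, 3] 18 0 false) (.leaf [2, 2, 6, 4, 4, 1, 5] 29 5 true)) (.leaf [4, 0, 5, 5, 0] 24 1 false))))) (.node (.node (.node (.node (.node (.leaf [3, 0, 3, 0, 3] 25 0 false) (.leaf [1, 0, 3, 5, 6, 0, 7] 32 5 true)) (.node (.leaf [3, 1, 4, 3, 5] 23 0 false) (.leaf [0, 6, 6, 1, 1, 0] 27 5 true))) (.node (.node (.leaf [7, 0, 2, 3, 7, 7] 26 0 false) (.leaf [3, 6, 6, 3, 4, 3] 16 5 true)) (.leaf [3] 3 0 false))) (.node (.node (.node (.leaf [2, 3, 7, 7, 1, 7] 26 2 false) (.leaf [5, 0, 4, 4, 0] 24 4 false)) (.leaf [5, 7, 5, 5] 10 2 false)) (.node (.node (.leaf [1] 1 1 false) (.leaf [7] 6 0 false)) (.leaf [7, 7, 7, 7, 5, 3] 14 2 false)))) (.node (.node (.node (.node (.leaf [6, 4, 6, 1,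 5, 2, 5] 31 7 true) (.leaf [3, 4, 7, 7, 7, 7] 14 0 false)) (.node (.leaf [3, 7, 7, 1, 7, 0] 26 3 false) (.leaf [6] 6 1 false))) (.node (.node (.leaf [2] 1 0 false) (.leaf [5, 3, 4, 6, 6, 6] 14 3 true)) (.leaf [3, 4, 4, 6] 10 1 true))) (.node (.node (.node (.leaf [4, 3, 5, 2, 3] 23 2 false) (.leaf [7] 6 0 false)) (.leaf [1, 0, 6, 2, 6, 6] 26 2 true)) (.node (.node (.leaf [7, 7, 0, 6, 0, 2] 27 4 false) (.leaf [0, 2, 3, 7, 7, 1] 26 1 false)) (.leaf [5] 4 0 false))))))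
noncomputable def r1 : TC.WTr := (.node (.node (.node (.node (.node (.node (.leaf [1, 3, 2] 18 1 false) (.leaf [4] 4 1 false)) (.node (.leaf [6, 6, 3, 1, 0, 6] 26 6 true) (.leaf [5, 5, 3, 5] 10 4 false))) (.node (.node (.leaf [3, 2, 0] 18 2 false) (.leaf [2, 6, 6, 3, 1, 0] 26 5 true)) (.leaf [3] 3 0 false))) (.node (.node (.node (.leaf [4, 4, 0, 5, 5] 24 0 false) (.leaf [5, 3, 5, 7] 10 0 false)) (.leaf [2, 0, 1] 18 3 false)) (.node (.node (.leaf [2] 1 0 false) (.leaf [7] 6 0 false)) (.leaf [1, 4, 2, 7, 5, 7, 0] 31 1 false)))) (.node (.node (.node (.node (.leaf [2, 0, 2, 5, 0, 1, 0, 2, 2] 19 5 false) (.leaf [2, 5, 0, 6, 4, 6, 1] 31 4 true)) (.node (.leaf [3, 7, 5, 0, 7, 0, 7] 30 4 false) (.leaf [6] 6 1 false))) (.node (.node (.leaf [2] 1 0 false) (.leaf [4, 3, 4, 4] 10 0 true)) (.leaf [0, 5, 5, 0, 4] 24 2 false))) (.node (.node (.node (.leaf [2] 1 0 false) (.leaf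 [4] 4 1 false)) (.leaf [6, 3, 6, 6, 3, 4] 16 4 true)) (.node (.node (.leaf [5, 0, 6, 4, 6, 1, 5] 31 5 true) (.leaf [3, 7, 3, 5, 3, 7] 16 6 false)) (.leaf [5] 4 0 false))))) (.node (.node (.node (.node (.node (.leaf [6, 2, 6, 6, 3, 1] 26 4 true) (.leaf [0, 7, 0, 7, 2, 3, 7] 30 7 false)) (.node (.leaf [0, 2, 5, 0, 1, 0, 2, 2, 0] 19 6 false) (.leaf [6] 6 1 false))) (.node (.node (.leaf [2] 1 0 false) (.leaf [6, 5, 3, 4, 6, 6] 14 2 true)) (.leaf [3] 3 0 false))) (.node (.node (.node (.leaf [0] 0 0 false) (.leaf [4] 4 1 false)) (.leaf [5, 2, 3, 1, 4] 23 4 false)) (.node (.node (.leaf [2, 0, 5, 3, 4, 0, 2] 33 5 true) (.leaf [6] 6 1 false)) (.leaf [7, 4, 7, 4, 7] 15 1 true)))) (.node (.node (.node (.node (.leaf [5, 5, 0, 4, 4] 24 3 false) (.leaf [7, 5, 5, 3] 10 3 false)) (.node (.leaf [3] 3 0 false) (.leaf [6] 6 1 false))) (.node (.node (.leaf [2] 1 0 false) (.leaf [5,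 6, 5, 6, 5] 15 1 false)) (.leaf [6, 4, 3, 4] 10 4 true))) (.node (.node (.node (.leaf [5, 2, 5, 0, 6, 4, 6] 31 3 true) (.leaf [1, 6, 6, 4, 4, 0, 2] 28 2 false)) (.leaf [5, 3, 7, 7, 3, 7] 16 2 false)) (.node (.node (.leaf [5, 5, 7, 1, 1, 6, 4] 29 4 false) (.leaf [4, 3, 0, 2, 4, 6, 0] 32 5 false)) (.leaf [5] 4 0 false))))))
noncomputable def tS : Tr := (.leaf (nat_lit 0xffdd06fa5d73661ade81113ff76c43522b368a9d60198ffe7f971971025ca7eba307ff9eeb3501921024283961ffd9ea76565f52b102d78f7ff655bb839f25862c4983fffc3e47d5e8928373498677ff0f1014856a569a287162ffe9ca72d60f14b41dfe717ff47d5a0f09757d3d99148ffc1f48567a0d4a5f599613ffa05f79141fa05786b9beffd976cc1f6f57e499595c3ff07940409814254a50c5dffc5f6e9f70792616db998fff498ae07968180bd6606fffc6e1f4ba394e70792b2c3ff5f8566f27f6019847c1effd4507459520e550d2a1fbff074901b4761b20c1accfffd494381d155074187d1abff34069250ee075ef54c5affd2c15ccf1e5051601d7bfff2c06819c661581d1d55fffc751244811c3b4e8000efff1e846114441d00010c42ffc41100770fc3e0f43c003ff00000000000001f0781d))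
noncomputable def tJ : Tr := (.leaf (nat_lit 0xea4a12c24cc00410742caa200c93d46002460280c6a88221006020055020002000500093382251900011ce082060300002004004008018a001a0320003381e5280e7000800000f00c002806078005000e080000280042002004003180a01120020000100000007000c0000c00018103000e08086080e070802028002800770402000600000172402080011000170040000001380508000000247044000000038000000000000038006b5ad68000))
noncomputable def tQ : Tr := (.leaf (nat_lit 0x0))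
noncomputable def tR : TC.WTr := (.node r0 r1)
def hl : List ℕ := [3, 4, 5, 5, 4, 6, 7, 7, 6]
def B : List (List ℕ) := [[0, 0], [1, 2], [2, 1], [3, 3], [4, 5], [5, 4], [6, 7], [7, 6], [6, 6, 6, 6, 6, 6, 6, 6], [4, 4, 4, 4, 4, 4, 4, 4], [5, 5, 3, 5, 7], [3, 4, 3, 4, 3, 4, 3, 4, 3, 4, 3, 4, 3, 4, 3, 4], [3, 4, 3, 5, 3, 4, 3, 5, 3, 4, 3, 5], [3, 5, 3, 5, 3, 5, 3, 5, 3, 5, 3, 5, 3, 5, 3, 5], [5, 3, 4, 7, 7, 7, 7], [5, 6, 5, 6, 5, 6], [3, 7, 3, 5, 3, 7, 7], [1, 1, 1, 1, 1, 1], [2, 0, 1, 3], [0, 1, 0, 2, 2, 0, 2, 0, 2, 5], [0, 1, 0, 1, 0, 1, 0, 1, 0, 1, 0, 1, 0, 1], [0, 1, 0, 2, 0, 1, 0, 2, 0, 1, 0, 2], [0, 2, 0, 2, 0, 2, 0, 2, 0, 2, 0, 2, 0, 2], [2, 3, 1, 4, 3, 5], [0, 4, 4, 0, 5, 5], [0, 3, 0, 3, 0, 3], [1, 7, 0, 2, 3, 7, 7], [0, 6, 0, 2, 2, 7, 7], [0, 2, 6, 1, 6, 6, 4, 4], [1, 1, 6, 4, 2, 5, 5, 7], [0, 7, 0, 7, 2, 3, 7, 5], [0, 4, 1, 4, 2, 7, 5, 7], [0, 2, 4, 6, 0,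 7, 4, 3], [0, 1, 1, 1, 0, 5, 3, 4]]
def subs : List (List ℕ) := [[3], [4], [5], [6], [7]]
def ex : List (List ℕ) := []
def inv (x : ℕ) : ℕ := [0, 2, 1, 3, 5, 4, 7, 6].getD x 0
noncomputable def rS : ℕ → ℕ := rowOf tS (nat_lit 8) (nat_lit 255) (nat_lit 90) (nat_lit 1237940039285380274899124223)
noncomputable def rJ : ℕ → ℕ := rowOf tJ (nat_lit 8) (nat_lit 255) (nat_lit 50) (nat_lit 1125899906842623)
noncomputable def C : TC.Cfg where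
  S := look rS (nat_lit 10) (nat_lit 1023)
  J := look rJ (nat_lit 5) (nat_lit 31)
  Q := lookQ tQ (nat_lit 8) (nat_lit 1) (nat_lit 1)
  R := tR.get
  hl := fun x => hl.contains x
  n := (nat_lit 28)
  M := (nat_lit 28)
  top := (nat_lit 728)
  nl := (nat_lit 8)
  need := (nat_lit 8)
  nr := (nat_lit 13)
theorem k0 : TC.chkRange C 0 1 = true := by decide +kernel
theorem rows0 : ∀ c < (0 + 1) * 64, c < C.M → TC.chkRow C c = true :=
  TC.rows_step (TC.rows_zero C) k0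
theorem main {G : Type*} [Group G] (g : ℕ → G) (hB : ∀ r ∈ B, ev g r = 1) (H : Subgroup G)
    (hH : ∀ w ∈ subs, ev g w ∈ H) :
    H.relIndex (Subgroup.closure (g '' {x | x < 8})) ≠ 0 ∧
      H.relIndex (Subgroup.closure (g '' {x | x < 8})) ≤ 28 :=
  TC.index_le C B subs ex inv hl tR.hint rfl (by decide +kernel) (by decide +kernel)
    (TC.rows_done rows0 (by decide +kernel)) g hB H hH
end H0.TCU330
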